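import Groth.Agent.Coherent.K49.ExtTensor
import Groth.Agent.CurvesC.ExtUnit

/-!
# Ext and finite locally free modules

* `sHomCongr` : the internal Hom out of isomorphic modules.
* `nonempty_extTensor'` : `Ext^i(F ⊗ L, G) ≅ Ext^i(F, G) ⊗ L^∨`.
* `nonempty_extHH` : `Ext^p(A, B) = H^p(X, Hom(A, B))` for `A` finite locally free.
-/

set_option autoImplicit false
universe u w

open CategoryTheory CategoryTheory.Limits AlgebraicGeometry MonoidalCategory

namespace K290.ExtLF

open scoped Groth.Agent.Dcoh.MonCat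
open K49.ExtTensor

variable {X : Scheme.{u}}

/-- Isomorphic modules have isomorphic internal Hom functors. -/
noncomputable def sHomCongr {A B : X.Modules} (e : A ≅ B) [ModSite.HasSheafHom (O := X.sheaf) A]
    [ModSite.HasSheafHom (O := X.sheaf) B] : sHom A ≅ sHom B :=
  Adjunction.rightAdjointUniq (ModSite.sheafHomAdj (O := X.sheaf) A)
    ((ModSite.sheafHomAdj (O := X.sheaf) B).ofNatIsoLeft
      ((ModSite.tensorBi X.sheaf).flip.mapIso e.symm))

/-- Isomorphic modules have isomorphic Ext sheaves. -/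
noncomputable def extShCongr {A B : X.Modules} (e : A ≅ B) [ModSite.HasSheafHom (O := X.sheaf) A]
    [ModSite.HasSheafHom (O := X.sheaf) B] [HasInjectiveResolutions X.Modules] (q : ℕ) :
    (sHom A).rightDerived q ≅ (sHom B).rightDerived q where
  hom := NatTrans.rightDerived (sHomCongr e).hom q
  inv := NatTrans.rightDerived (sHomCongr e).inv q
  hom_inv_id := by rw [← NatTrans.rightDerived_comp, Iso.hom_inv_id, NatTrans.rightDerived_id]
  inv_hom_id := by rw [← NatTrans.rightDerived_comp, Iso.inv_hom_id, NatTrans.rightDerived_id]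

theorem nonempty_extTensor' (F G L : X.Modules) (hL : FlatMod.IsFinLocFree L) (i : ℕ)
    [ModSite.HasSheafHom (O := X.sheaf) F] [ModSite.HasSheafHom (O := X.sheaf) L]
    [ModSite.HasSheafHom (O := X.sheaf) (CohB1.tensorMod F L)]
    [h : HasInjectiveResolutions (ModSite.Mod X.sheaf)] :
    Nonempty ((ModSite.extSh (O := X.sheaf) (CohB1.tensorMod F L) i).obj G ≅
      CohB1.tensorMod ((ModSite.extSh (O := X.sheaf) F i).obj G)
        ((ModSite.sheafHom (O := X.sheaf) L).obj (Coh.structureModule X))) := by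
  have h3 : HasInjectiveResolutions X.Modules := h
  obtain ⟨L', -, ⟨h1⟩, ⟨h2⟩⟩ := K53.FlfAdj.exists_pairing_symm hL
  have h4 : ModSite.HasSheafHom (O := X.sheaf) (CohB1.tensorMod L F) := K50.SectOn.hasSheafHom _
  obtain ⟨e⟩ := nonempty_extTensor L L' F G i
  have e0 : CohB1.tensorMod F L ≅ CohB1.tensorMod L F := (β_ F L : F ⊗ L ≅ L ⊗ F)
  exact ⟨((extShCongr e0 i).app G) ≪≫ e.symm⟩

section Cong

variable {C : Type*} [Category C] [Abelian C] [HasExt.{w} C]

/-- Ext of isomorphic objects (first variable). -/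
noncomputable def extLeft {A A' : C} (e : A ≅ A') (B : C) (n : ℕ) :
    Abelian.Ext.{w} A B n ≃+ Abelian.Ext.{w} A' B n where
  toFun x := (Abelian.Ext.mk₀ e.inv).comp x (zero_add n)
  invFun x := (Abelian.Ext.mk₀ e.hom).comp x (zero_add n)
  left_inv x := by simp
  right_inv x := by simp
  map_add' x y := Abelian.Ext.comp_add _ _ _ _

/-- Ext of isomorphic objects (second variable). -/
noncomputable def extRight (A : C) {B B' : C} (e : B ≅ B') (n : ℕ) :
    Abelian.Ext.{w} A B n ≃+ Abelian.Ext.{w} A B' n where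
  toFun x := x.comp (Abelian.Ext.mk₀ e.hom) (add_zero n)
  invFun x := x.comp (Abelian.Ext.mk₀ e.inv) (add_zero n)
  left_inv x := by simp
  right_inv x := by simp
  map_add' x y := Abelian.Ext.add_comp _ _ _ _

end Cong

/-- The internal Hom (`M ⊗ -` version) out of a dualizable module is the tensor product with the dual. -/
noncomputable def homIsoL (A A' B : X.Modules) [ExactPairing A' A] [DCoh.HasSheafHom A] :
    (DCoh.sheafHom A).obj B ≅ CohB1.tensorMod B A' :=
  (Adjunction.rightAdjointUniq (DCoh.sheafHomAdj A) (tensorLeftAdjunction A' A)).app B ≪≫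
    (β_ A' B : A' ⊗ B ≅ B ⊗ A')

theorem nonempty_extHH [HasExt.{w} X.Modules] (A B : X.Modules) (hA : FlatMod.IsFinLocFree A)
    [DCoh.HasSheafHom A] (p : ℕ) :
    Nonempty (Abelian.Ext.{w} A B p ≃+ Coh.HH X ((DCoh.sheafHom A).obj B) p) := by
  obtain ⟨A', -, ⟨h1⟩, ⟨h2⟩⟩ := K53.FlfAdj.exists_pairing_symm hA
  obtain ⟨e1⟩ := K53.FlfAdj.nonempty_ext.{u, w} A A' (Coh.structureModule X) B p
  have l : CohB1.tensorMod (Coh.structureModule X) A ≅ A := (λ_ A : 𝟙_ X.Modules ⊗ A ≅ A)
  exact ⟨(extLeft l.symm B p).trans (e1.trans ((extRight (Coh.structureModule X) (homIsoL A A' B).symm p).trans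
    (Groth.Agent.CurvesC.ExtUnit.extHH ((DCoh.sheafHom A).obj B) p)))⟩

end K290.ExtLF
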